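import Groth.Agent.EtCoh.K961.Chart
import Groth.Agent.EtCoh.K961.TrDef
import Mathlib.LinearAlgebra.Determinant

/-!
# Independence of the toric chart of the projective plane (node IND of Plan593)
-/

set_option autoImplicit false
universe u v

open KaehlerDifferential K611.Gam K611.Gam2 K611.Frame K611.Top K720.Sym K56.T4 K961 K961.Inv

noncomputable section

namespace K762.Ind

/-! ### Change of frame -/

theorem exists_fr {A : Type u} [CommRing A] (F : Fr A (Fin 2)) (y : Fin 2 → A) (a b c d : A)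
    (h0 : D ℤ A (y 0) = a • D ℤ A (F.x 0) + b • D ℤ A (F.x 1))
    (h1 : D ℤ A (y 1) = c • D ℤ A (F.x 0) + d • D ℤ A (F.x 1))
    (hu : IsUnit (a * d - b * c)) : ∃ F' : Fr A (Fin 2), F'.x = y := by
  have hdet : F.b.det (fun i => D ℤ A (y i)) = a * d - b * c := by
    rw [Module.Basis.det_apply, Matrix.det_fin_two]
    simp only [Module.Basis.toMatrix_apply]
    rw [h0, h1, ← F.hb, ← F.hb]
    simp only [map_add, map_smul, Finsupp.add_apply, Finsupp.smul_apply, Module.Basis.repr_self,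
      smul_eq_mul, Finsupp.single_apply]
    simp
    ring
  have hb := Module.Basis.is_basis_iff_det F.b (v := fun i => D ℤ A (y i))
  rw [hdet] at hb
  obtain ⟨hli, hsp⟩ := hb.mpr hu
  exact ⟨⟨y, Module.Basis.mk hli hsp.ge, fun i => Module.Basis.mk_apply hli hsp.ge i⟩, rfl⟩

/-! ### Change of monomials -/

theorem exists_tor {p n : ℕ} {A : Type u} [CommRing A] (T : Tor p n A) (F' : Fr A (Fin 2))
    (hφ : ∀ i, T.φ (F'.x i) = F'.x i ^ p) (σ : Fin p × Fin p ≃ Fin p × Fin p)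
    (u v : Fin p × Fin p → A) (huv : ∀ e, u e * v e = 1)
    (hm : ∀ e, F'.x 0 ^ (e.1 : ℕ) * F'.x 1 ^ (e.2 : ℕ) = T.φ (u e) * T.mon (σ e)) :
    ∃ T2 : Tor p n A, T2.φ = T.φ ∧ T2.fr = F' := by
  have key : ∀ f : Fin p × Fin p → A,
      ∑ e, T.φ (f e) * (F'.x 0 ^ (e.1 : ℕ) * F'.x 1 ^ (e.2 : ℕ)) =
        T.expn (fun e => f (σ.symm e) * u (σ.symm e)) := by
    intro f
    change _ = ∑ e, T.φ (f (σ.symm e) * u (σ.symm e)) * T.mon e
    conv_rhs => rw [← Equiv.sum_comp σ]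
    refine Finset.sum_congr rfl fun e _ => ?_
    rw [σ.symm_apply_apply, hm, map_mul, mul_assoc]
  refine ⟨⟨F', T.φ, T.pn, hφ, T.hφ, ?_, T.flat⟩, rfl, rfl⟩
  constructor
  · intro f g hfg
    have h1 := (key f).symm.trans (hfg.trans (key g))
    have h2 := T.bas.1 h1
    funext e
    have h3 := congrFun h2 (σ e)
    simp only [σ.symm_apply_apply] at h3
    calc f e = f e * u e * v e := by rw [mul_assoc, huv, mul_one]
      _ = g e * u e * v e := by rw [h3]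
      _ = g e := by rw [mul_assoc, huv, mul_one]
  · intro a
    obtain ⟨g, hg⟩ := T.bas.2 a
    refine ⟨fun e => g (σ e) * v e, ?_⟩
    change ∑ e, T.φ (g (σ e) * v e) * (F'.x 0 ^ (e.1 : ℕ) * F'.x 1 ^ (e.2 : ℕ)) = a
    rw [key]
    refine Eq.trans ?_ hg
    change T.expn _ = T.expn g
    congr 1
    funext e
    rw [σ.apply_symm_apply, mul_assoc, mul_comm (v _), huv, mul_one]

/-- The residue of `-(i + j)` modulo `p`. -/
def rr (p i j : ℕ) : ℕ := if i + j = 0 then 0 else if i + j ≤ p then p - (i + j) else 2 * p - (i + j)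

/-- The quotient. -/
def qq (p i j : ℕ) : ℕ := if i + j = 0 then 0 else if i + j ≤ p then 1 else 2

theorem rr_lt {p i j : ℕ} (hi : i < p) (hj : j < p) : rr p i j < p := by
  unfold rr
  split_ifs <;> omega

theorem rr_rr {p i j : ℕ} (hi : i < p) (hj : j < p) : rr p i (rr p i j) = j := by
  unfold rr
  split_ifs <;> omega

theorem rr_comm (p i j : ℕ) : rr p i j = rr p j i := by
  unfold rr
  rw [add_comm i j]

theorem mul_qq {p i j : ℕ} (hi : i < p) (hj : j < p) : p * qq p i j = i + j + rr p i j := by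
  unfold rr qq
  split_ifs <;> omega

/-- `(i, j) ↦ (r, i)`. -/
def sg (p : ℕ) : Fin p × Fin p ≃ Fin p × Fin p where
  toFun e := (⟨rr p e.1 e.2, rr_lt e.1.2 e.2.2⟩, e.1)
  invFun e := (e.2, ⟨rr p e.2 e.1, rr_lt e.2.2 e.1.2⟩)
  left_inv e := Prod.ext rfl (Fin.ext (rr_rr e.1.2 e.2.2))
  right_inv e := Prod.ext (Fin.ext (rr_rr e.2.2 e.1.2)) rfl

theorem pow_eq {p n : ℕ} {A : Type u} [CommRing A] (T : Tor p n A) {x y : A} (h : x * y = 1)
    (hx : T.φ x = x ^ p) {i j : ℕ} (hi : i < p) (hj : j < p) :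
    y ^ (i + j) = T.φ (y ^ qq p i j) * x ^ rr p i j := by
  have hyx : ∀ m : ℕ, y ^ m * x ^ m = 1 := fun m => by rw [← mul_pow, mul_comm y x, h, one_pow]
  have hy : T.φ y = y ^ p := by
    have h3 : x ^ p * T.φ y = 1 := by rw [← hx, ← map_mul, h, map_one]
    calc T.φ y = y ^ p * x ^ p * T.φ y := by rw [hyx, one_mul]
      _ = y ^ p := by rw [mul_assoc, h3, mul_one]
  rw [map_pow, hy, ← pow_mul, mul_qq hi hj, pow_add y (i + j) _, mul_assoc, hyx, mul_one]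

theorem phi_inv {p n : ℕ} {A : Type u} [CommRing A] (T : Tor p n A) {x y : A} (h : x * y = 1)
    (hx : T.φ x = x ^ p) : T.φ y = y ^ p := by
  have hyx : y ^ p * x ^ p = 1 := by rw [← mul_pow, mul_comm y x, h, one_pow]
  have h3 : x ^ p * T.φ y = 1 := by rw [← hx, ← map_mul, h, map_one]
  calc T.φ y = y ^ p * x ^ p * T.φ y := by rw [hyx, one_mul]
    _ = y ^ p := by rw [mul_assoc, h3, mul_one]

theorem D_inv {A : Type u} [CommRing A] {x y : A} (h : x * y = 1) :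
    D ℤ A y = -(y ^ 2 • D ℤ A x) := by
  have := congrArg (D ℤ A) h
  rw [Derivation.leibniz, Derivation.map_one_eq_zero] at this
  have h3 := congrArg (fun z => y • z) this
  simp only [smul_add, smul_zero, ← mul_smul] at h3
  have h1' : y * x = 1 := by rw [mul_comm]; exact h
  rw [h1', one_smul] at h3
  rw [eq_neg_iff_add_eq_zero, sq]
  exact h3

/-- The chart with coordinates `x₁/x₀, 1/x₀`. -/
theorem exists_dn {p n : ℕ} {A : Type u} [CommRing A] (T : Tor p n A) (y : A)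
    (h : T.fr.x 0 * y = 1) :
    ∃ T2 : Tor p n A, T2.φ = T.φ ∧ T2.fr.x 0 = y * T.fr.x 1 ∧ T2.fr.x 1 = y := by
  have hy := phi_inv T h (T.φx 0)
  obtain ⟨F', hF⟩ := exists_fr T.fr ![y * T.fr.x 1, y] (-(T.fr.x 1 * y ^ 2)) y (-(y ^ 2)) 0
    (by
      change D ℤ A (y * T.fr.x 1) = _
      rw [Derivation.leibniz, D_inv h, smul_neg, ← mul_smul, neg_smul, add_comm])
    (by
      change D ℤ A y = _
      rw [D_inv h, zero_smul, add_zero, neg_smul])
    (by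
      have : -(T.fr.x 1 * y ^ 2) * 0 - y * -(y ^ 2) = y ^ 3 := by ring
      rw [this]
      exact (IsUnit.of_mul_eq_one (T.fr.x 0) (by rw [mul_comm]; exact h)).pow 3)
  have e0 : F'.x 0 = y * T.fr.x 1 := congrFun hF 0
  have e1 : F'.x 1 = y := congrFun hF 1
  obtain ⟨T2, g1, g2⟩ := exists_tor T F'
    (by
      intro i
      fin_cases i
      · change T.φ (F'.x 0) = F'.x 0 ^ p
        rw [e0, map_mul, hy, T.φx, mul_pow]
      · change T.φ (F'.x 1) = F'.x 1 ^ p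
        rw [e1, hy])
    (sg p) (fun e => y ^ qq p e.1 e.2) (fun e => T.fr.x 0 ^ qq p e.1 e.2)
    (fun e => by rw [← mul_pow, mul_comm y, h, one_pow])
    (fun e => by
      rw [e0, e1]
      change _ = T.φ (y ^ qq p e.1 e.2) * (T.fr.x 0 ^ rr p e.1 e.2 * T.fr.x 1 ^ (e.1 : ℕ))
      rw [← mul_assoc, ← pow_eq T h (T.φx 0) e.1.2 e.2.2]
      ring)
  exact ⟨T2, g1, by rw [g2, e0], by rw [g2, e1]⟩

/-- The chart with coordinates `1/x₁, x₀/x₁`. -/
theorem exists_up {p n : ℕ} {A : Type u} [CommRing A] (T : Tor p n A) (x : A)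
    (h : x * T.fr.x 1 = 1) :
    ∃ T2 : Tor p n A, T2.φ = T.φ ∧ T2.fr.x 0 = x ∧ T2.fr.x 1 = x * T.fr.x 0 := by
  have h' : T.fr.x 1 * x = 1 := by rw [mul_comm]; exact h
  have hy := phi_inv T h' (T.φx 1)
  obtain ⟨F', hF⟩ := exists_fr T.fr ![x, x * T.fr.x 0] 0 (-(x ^ 2)) x (-(T.fr.x 0 * x ^ 2))
    (by
      change D ℤ A x = _
      rw [D_inv h', zero_smul, zero_add, neg_smul])
    (by
      change D ℤ A (x * T.fr.x 0) = _
      rw [Derivation.leibniz, D_inv h', smul_neg, ← mul_smul, neg_smul])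
    (by
      have : 0 * -(T.fr.x 0 * x ^ 2) - -(x ^ 2) * x = x ^ 3 := by ring
      rw [this]
      exact (IsUnit.of_mul_eq_one (T.fr.x 1) h).pow 3)
  have e0 : F'.x 0 = x := congrFun hF 0
  have e1 : F'.x 1 = x * T.fr.x 0 := congrFun hF 1
  obtain ⟨T2, g1, g2⟩ := exists_tor T F'
    (by
      intro i
      fin_cases i
      · change T.φ (F'.x 0) = F'.x 0 ^ p
        rw [e0, hy]
      · change T.φ (F'.x 1) = F'.x 1 ^ p
        rw [e1, map_mul, hy, T.φx, mul_pow])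
    (sg p).symm (fun e => x ^ qq p e.1 e.2) (fun e => T.fr.x 1 ^ qq p e.1 e.2)
    (fun e => by rw [← mul_pow, h, one_pow])
    (fun e => by
      rw [e0, e1]
      change _ = T.φ (x ^ qq p e.1 e.2) * (T.fr.x 0 ^ (e.2 : ℕ) * T.fr.x 1 ^ rr p e.2 e.1)
      rw [mul_left_comm, ← rr_comm p e.1 e.2, ← pow_eq T h' (T.φx 1) e.1.2 e.2.2]
      ring)
  exact ⟨T2, g1, by rw [g2, e0], by rw [g2, e1]⟩

/-! ### The relation between the two charts -/

/-- The relation between two charts. -/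
structure Rel {p n : ℕ} {A : Type u} [CommRing A] (T T' : Tor p n A) : Prop where
  φ : T.φ = T'.φ
  h1 : T.fr.x 0 * T'.fr.x 1 = 1
  h2 : T'.fr.x 0 = T'.fr.x 1 * T.fr.x 1

section rel

variable {p n : ℕ} {A E : Type u} [CommRing A] [CommRing E] {T T' : Tor p n A} (h : Rel T T')

include h

theorem Rel.push {f : A →+* E} {T₂ : Tor p n E} (hc : Cpt T T₂ f) :
    ∃ T₂' : Tor p n E, Rel T₂ T₂' ∧ Cpt T' T₂' f := by
  obtain ⟨T₂', g1, g2, g3⟩ := exists_dn T₂ (f (T'.fr.x 1))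
    (by rw [← hc.x, ← map_mul, h.h1, map_one])
  refine ⟨T₂', ⟨g1.symm, by rw [g3, ← hc.x, ← map_mul, h.h1, map_one], by rw [g2, g3]⟩,
    ⟨fun i => ?_, fun a => ?_⟩⟩
  · fin_cases i
    · change f (T'.fr.x 0) = T₂'.fr.x 0
      rw [g2, h.h2, map_mul, hc.x]
    · exact g3.symm
  · rw [g1, ← hc.φ, h.φ]

theorem Rel.pull {f : A →+* E} {T₂' : Tor p n E} (hc : Cpt T' T₂' f) :
    ∃ T₂ : Tor p n E, Rel T₂ T₂' ∧ Cpt T T₂ f := by
  have hf : f (T.fr.x 0) * T₂'.fr.x 1 = 1 := by rw [← hc.x, ← map_mul, h.h1, map_one]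
  obtain ⟨T₂, g1, g2, g3⟩ := exists_up T₂' (f (T.fr.x 0)) hf
  refine ⟨T₂, ⟨g1, by rw [g2, hf], ?_⟩, ⟨fun i => ?_, fun a => ?_⟩⟩
  · rw [g3, ← mul_assoc, mul_comm (T₂'.fr.x 1), hf, one_mul]
  · fin_cases i
    · exact g2.symm
    · change f (T.fr.x 1) = T₂.fr.x 1
      rw [g3, ← hc.x, ← map_mul, h.h2, ← mul_assoc, h.h1, one_mul]
  · rw [g1, ← hc.φ, h.φ]

variable [hp : Fact p.Prime]

theorem Rel.it_eq (k : ℕ) : it T k = it T' k := by
  ext ω
  rw [it_apply, it_apply, Tor.S_eq T T' h.φ h.h1 h.h2]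

omit hp in
theorem Rel.tr2_eq [Algebra A E] {TE TE' : Tor p n E} (hE : Rel TE TE')
    (hc : Cpt T' TE' (algebraMap A E)) (η : Om2 E) :
    tr2 T.fr TE.fr η = tr2 T'.fr TE'.fr η := by
  rw [tr2_apply, tr2_apply]
  have e1 : det TE.fr η = algebraMap A E (T'.fr.x 1 ^ 3) * det TE'.fr η := by
    conv_lhs => rw [eq_det TE'.fr η, map_smul, Tor.vol_change TE TE' hE.h1 hE.h2, map_smul, det_vol]
    rw [map_pow, hc.x, smul_eq_mul, smul_eq_mul, mul_one, mul_comm]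
  rw [e1, ← Algebra.smul_def, map_smul, Tor.vol_change T T' h.h1 h.h2, smul_smul, smul_eq_mul,
    mul_comm]

end rel

section chart

variable {p n : ℕ} {A : Type u} [CommRing A] {T : Tor p n A} {B : Type u} [CommRing B] [Algebra A B]

/-- Changing the coordinates of a chart. -/
def chg (c : Ch T B) (T' : Tor p n A) (T2 : Tor p n c.A') (hc : Cpt T' T2 (algebraMap A c.A'))
    (TE2 : Tor p n c.E) (hE : Cpt T2 TE2 (algebraMap c.A' c.E)) : Ch T' B where
  g := c.g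
  hg := c.hg
  A' := c.A'
  T' := T2
  cpt := hc
  E := c.E
  TE := TE2
  cptE := hE
  B' := c.B'
  q := c.q
  hq := c.hq
  kq := c.kq
  comm := c.comm

theorem chg_val [Fact p.Prime] (c : Ch T B) (T' : Tor p n A) (T2 : Tor p n c.A')
    (hc : Cpt T' T2 (algebraMap A c.A'))
    (TE2 : Tor p n c.E) (hE : Cpt T2 TE2 (algebraMap c.A' c.E)) (hit : it c.TE n = it TE2 n)
    (htr : ∀ η, tr2 c.T'.fr c.TE.fr η = tr2 T2.fr TE2.fr η) (z : Tn B) :
    (chg c T' T2 hc TE2 hE).val z = c.val z := by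
  obtain ⟨y, hy⟩ := c.exists_lift z
  rw [c.val_eq z y hy, (chg c T' T2 hc TE2 hE).val_eq z y hy]
  change tr2 T2.fr TE2.fr (it TE2 n (sy y)) = _
  rw [hit, htr]

end chart

/-- Node IND of Plan593 for the symbol trace. -/
theorem isTau_of_tw {p n : ℕ} [Fact p.Prime] {A : Type u} [CommRing A] {T T' : Tor p n A} {B : Type u} [CommRing B]
    [Algebra A B] (hφ : T.φ = T'.φ) (h1 : T.fr.x 0 * T'.fr.x 1 = 1) (h2 : T'.fr.x 0 = T'.fr.x 1 * T.fr.x 1) (z : Tn B)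
    (ω : Om2 A) : IsTau T B z ω ↔ IsTau T' B z ω := by
  have h : Rel T T' := ⟨hφ, h1, h2⟩
  constructor
  · rintro ⟨c, hc⟩
    obtain ⟨T2, r1, k1⟩ := h.push c.cpt
    obtain ⟨TE2, r2, k2⟩ := r1.push c.cptE
    exact ⟨chg c T' T2 k1 TE2 k2, hc.trans
      (chg_val c T' T2 k1 TE2 k2 (r2.it_eq n) (r1.tr2_eq r2 k2) z).symm⟩
  · rintro ⟨c, hc⟩
    obtain ⟨T2, r1, k1⟩ := h.pull c.cpt
    obtain ⟨TE2, r2, k2⟩ := r1.pull c.cptE
    exact ⟨chg c T T2 k1 TE2 k2, hc.trans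
      (chg_val c T T2 k1 TE2 k2 (r2.it_eq n).symm (fun η => (r1.tr2_eq r2 c.cptE η).symm) z).symm⟩

/-- Node IND of Plan593 for the trace of two-forms. -/
theorem isTr_of_tw {p n : ℕ} [Fact p.Prime] {A : Type u} [CommRing A] {T T' : Tor p n A} {B : Type u} [CommRing B]
    [Algebra A B] (hφ : T.φ = T'.φ) (h1 : T.fr.x 0 * T'.fr.x 1 = 1) (h2 : T'.fr.x 0 = T'.fr.x 1 * T.fr.x 1) (η : Om2 B)
    (ω : Om2 A) : IsTr T B η ω ↔ IsTr T' B η ω := by
  have h : Rel T T' := ⟨hφ, h1, h2⟩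
  constructor
  · rintro ⟨c, e, he, hc⟩
    obtain ⟨T2, r1, k1⟩ := h.push c.cpt
    obtain ⟨TE2, r2, k2⟩ := r1.push c.cptE
    refine ⟨chg c T' T2 k1 TE2 k2, e, he, hc.trans ?_⟩
    rw [r1.tr2_eq r2 k2]
    rfl
  · rintro ⟨c, e, he, hc⟩
    obtain ⟨T2, r1, k1⟩ := h.pull c.cpt
    obtain ⟨TE2, r2, k2⟩ := r1.pull c.cptE
    refine ⟨chg c T T2 k1 TE2 k2, e, he, hc.trans ?_⟩
    rw [← r1.tr2_eq r2 c.cptE]
    rfl

end K762.Ind
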