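import Groth.Agent.EtCoh.K961.Chart

/-!
# Reduction modulo `p` of a toric chart ring (node RED of Plan593)
-/

set_option autoImplicit false
universe u v

open KaehlerDifferential K611.Gam K611.Gam2 K611.Frame K611.Top K56.T4 K961

noncomputable section

namespace K762.Red

section frame

variable {p : ℕ} {E C : Type u} [CommRing E] [CommRing C] {ι : Type v} (F : Fr E ι) (q : E →+* C)
  (hq : Function.Surjective q) (kq : RingHom.ker q = Ideal.span {(p : E)})

include kq in
theorem q_p : q (p : E) = 0 := by
  have : (p : E) ∈ RingHom.ker q := by rw [kq]; exact Ideal.mem_span_singleton_self _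
  exact this

include kq in
theorem q_par {e e' : E} (h : q e = q e') (i : ι) : q (F.par i e) = q (F.par i e') := by
  have h1 : e - e' ∈ RingHom.ker q := by rw [RingHom.mem_ker, map_sub, h, sub_self]
  rw [kq, Ideal.mem_span_singleton] at h1
  obtain ⟨t, ht⟩ := h1
  have h2 : F.par i e - F.par i e' = (p : E) * F.par i t := by
    rw [← map_sub, ht, Derivation.leibniz, Derivation.map_natCast, smul_zero, add_zero, smul_eq_mul]
  rw [← sub_eq_zero, ← map_sub, h2, map_mul, q_p q kq, zero_mul]

/-- The reduced partial derivatives. -/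
def dq (i : ι) : Derivation ℤ C C :=
  Derivation.mk'
    ({ toFun := fun c => q (F.par i (Function.surjInv hq c))
       map_add' := fun a b => by
        rw [← map_add, ← map_add]
        refine q_par F q kq ?_ i
        rw [map_add, Function.surjInv_eq hq, Function.surjInv_eq hq, Function.surjInv_eq hq]
       map_smul' := fun m a => by
        have h1 : q (F.par i (Function.surjInv hq (m • a))) =
            q (F.par i (m • Function.surjInv hq a)) := by
          refine q_par F q kq ?_ i
          rw [map_zsmul, Function.surjInv_eq hq, Function.surjInv_eq hq]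
        rw [h1, map_zsmul, map_zsmul]
        rfl } : C →ₗ[ℤ] C)
    (fun a b => by
      change q (F.par i (Function.surjInv hq (a * b))) =
        a • q (F.par i (Function.surjInv hq b)) + b • q (F.par i (Function.surjInv hq a))
      have h1 : q (F.par i (Function.surjInv hq (a * b))) =
          q (F.par i (Function.surjInv hq a * Function.surjInv hq b)) := by
        refine q_par F q kq ?_ i
        rw [map_mul, Function.surjInv_eq hq, Function.surjInv_eq hq, Function.surjInv_eq hq]
      rw [h1, Derivation.leibniz, map_add, smul_eq_mul, smul_eq_mul, map_mul, map_mul,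
        Function.surjInv_eq hq, Function.surjInv_eq hq, smul_eq_mul, smul_eq_mul])

theorem dq_q (i : ι) (e : E) : dq F q hq kq i (q e) = q (F.par i e) := by
  change q (F.par i (Function.surjInv hq (q e))) = _
  exact q_par F q kq (Function.surjInv_eq hq _) i

variable [Fintype ι]

/-- The coordinates of one-forms. -/
def toPi : Ω[C⁄ℤ] →ₗ[C] (ι → C) :=
  LinearMap.pi fun i => (dq F q hq kq i).liftKaehlerDifferential

/-- One-forms from coordinates. -/
def ofPi : (ι → C) →ₗ[C] Ω[C⁄ℤ] :=
  Fintype.linearCombination C fun i => D ℤ C (q (F.x i))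

theorem ofPi_apply (f : ι → C) : ofPi F q f = ∑ i, f i • D ℤ C (q (F.x i)) :=
  Fintype.linearCombination_apply _ _ _

omit [Fintype ι] in
theorem toPi_D (c : C) (i : ι) : toPi F q hq kq (D ℤ C c) i = dq F q hq kq i c := by
  change (dq F q hq kq i).liftKaehlerDifferential (D ℤ C c) = _
  rw [Derivation.liftKaehlerDifferential_comp_D]

theorem toPi_ofPi (f : ι → C) : toPi F q hq kq (ofPi F q f) = f := by
  classical
  funext i
  rw [ofPi_apply, map_sum, Finset.sum_apply, Finset.sum_eq_single i]
  · rw [map_smul, Pi.smul_apply, toPi_D, dq_q, F.par_x, if_pos rfl, map_one, smul_eq_mul, mul_one]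
  · intro j _ hj
    rw [map_smul, Pi.smul_apply, toPi_D, dq_q, F.par_x, if_neg (Ne.symm hj), map_zero, smul_zero]
  · intro h
    exact absurd (Finset.mem_univ i) h

theorem ofPi_toPi (ω : Ω[C⁄ℤ]) : ofPi F q (toPi F q hq kq ω) = ω := by
  have h : (ofPi F q) ∘ₗ (toPi F q hq kq) = LinearMap.id := by
    apply Derivation.liftKaehlerDifferential_unique
    ext c
    obtain ⟨e, rfl⟩ := hq c
    change ofPi F q (toPi F q hq kq (D ℤ C (q e))) = D ℤ C (q e)
    have h1 : D ℤ C (q e) = ∑ i, q (F.par i e) • D ℤ C (q (F.x i)) := by
      rw [← omap_D q e, F.D_eq_sum, map_sum]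
      refine Finset.sum_congr rfl fun i _ => ?_
      rw [omap_smul, omap_D]
    rw [ofPi_apply]
    conv_rhs => rw [h1]
    refine Finset.sum_congr rfl fun i _ => ?_
    rw [toPi_D, dq_q]
  exact DFunLike.congr_fun h ω

/-- The reduced frame. -/
def frq : Fr C ι where
  x i := q (F.x i)
  b := Module.Basis.ofEquivFun
    { toLinearMap := toPi F q hq kq
      invFun := ofPi F q
      left_inv := ofPi_toPi F q hq kq
      right_inv := toPi_ofPi F q hq kq }
  hb i := by
    classical
    rw [Module.Basis.coe_ofEquivFun]
    change ofPi F q (Pi.single i 1) = _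
    rw [ofPi_apply, Finset.sum_eq_single i]
    · rw [Pi.single_eq_same, one_smul]
    · intro j _ hj
      rw [Pi.single_eq_of_ne hj, zero_smul]
    · intro h
      exact absurd (Finset.mem_univ i) h

end frame

/-- Node RED of Plan593. -/
theorem exists_red {p n : ℕ} [Fact p.Prime] (_hn : 0 < n) {E C : Type u} [CommRing E] [CommRing C] (TE : Tor p n E)
    (q : E →+* C) (hq : Function.Surjective q) (kq : RingHom.ker q = Ideal.span {(p : E)}) :
    ∃ T₁ : Tor p 1 C, Cpt TE T₁ q := by
  have hp0 : (p : C) = 0 := by rw [← map_natCast q p]; exact q_p q kq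
  have hφq : ∀ e : E, q (TE.φ e) = q e ^ p := by
    intro e
    obtain ⟨b, hb⟩ := TE.hφ e
    rw [hb, map_add, map_mul, map_pow, map_natCast, hp0, zero_mul, add_zero]
  let φ : C →+* C :=
    { toFun := fun c => c ^ p
      map_one' := one_pow p
      map_mul' := fun a b => mul_pow a b p
      map_zero' := zero_pow (Fact.out : p.Prime).ne_zero
      map_add' := fun a b => by
        obtain ⟨a, rfl⟩ := hq a
        obtain ⟨b, rfl⟩ := hq b
        rw [← map_add, ← hφq, ← hφq, ← hφq, map_add, map_add] }
  have hφ : ∀ c, φ c = c ^ p := fun c => rfl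
  let T₁ : Tor p 1 C :=
    { fr := frq TE.fr q hq kq
      φ := φ
      pn := by rw [pow_one, hp0]
      φx := fun i => rfl
      hφ := fun a => ⟨0, by rw [hφ, mul_zero, add_zero]⟩
      bas := by
        have key : ∀ f : Fin p × Fin p → E,
            ∑ e, φ (q (f e)) * (q (TE.fr.x 0) ^ (e.1 : ℕ) * q (TE.fr.x 1) ^ (e.2 : ℕ)) =
              q (∑ e, TE.φ (f e) * TE.mon e) := by
          intro f
          rw [map_sum]
          refine Finset.sum_congr rfl fun e _ => ?_
          rw [hφ, ← hφq, map_mul, Tor.mon, map_mul, map_pow, map_pow]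
        constructor
        · intro f g hfg
          choose f' hf' using fun e => hq (f e)
          choose g' hg' using fun e => hq (g e)
          have e1 : f = fun e => q (f' e) := funext fun e => (hf' e).symm
          have e2 : g = fun e => q (g' e) := funext fun e => (hg' e).symm
          subst e1
          subst e2
          have h1 := (key f').symm.trans (hfg.trans (key g'))
          have h2 : (∑ e, TE.φ (f' e) * TE.mon e) - (∑ e, TE.φ (g' e) * TE.mon e) ∈
              RingHom.ker q := by rw [RingHom.mem_ker, map_sub, h1, sub_self]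
          rw [kq, Ideal.mem_span_singleton] at h2
          obtain ⟨t, ht⟩ := h2
          have h3 : TE.coord (∑ e, TE.φ (f' e) * TE.mon e) = f' := TE.coord_unique _ rfl
          have h4 : TE.coord (∑ e, TE.φ (g' e) * TE.mon e) = g' := TE.coord_unique _ rfl
          funext e
          have h5 : f' e - g' e = (p : E) * TE.coord t e := by
            have h6 := congrFun (congrArg TE.coord ht) e
            rw [map_sub, Pi.sub_apply, h3, h4] at h6
            rw [h6]
            have h7 : (p : E) * t = TE.φ (p : E) * t := by rw [map_natCast]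
            rw [h7, TE.coord_phi_mul]
          change q (f' e) = q (g' e)
          rw [← sub_eq_zero, ← map_sub, h5, map_mul, q_p q kq, zero_mul]
        · intro c
          obtain ⟨e, rfl⟩ := hq c
          refine ⟨fun i => q (TE.coord e i), ?_⟩
          change ∑ i, φ (q (TE.coord e i)) * (q (TE.fr.x 0) ^ (i.1 : ℕ) * q (TE.fr.x 1) ^ (i.2 : ℕ)) = q e
          rw [key, TE.coord_spec]
      flat := by
        intro i hi a ha
        rcases Nat.le_one_iff_eq_zero_or_eq_one.mp hi with rfl | rfl
        · refine ⟨0, ?_⟩
          rw [pow_zero, one_mul] at ha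
          rw [ha, mul_zero]
        · exact ⟨a, by rw [Nat.sub_self, pow_zero, one_mul]⟩ }
  exact ⟨T₁, ⟨fun i => rfl, fun a => hφq a⟩⟩

end K762.Red
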